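import Groth.Agent.FLCLib.Efface
import Groth.Agent.S8525
import Groth.Agent.EtPtsLib.Criteria
import Groth.Agent.EtJCont.Basic
import Groth.Prelude.Def_EtAcyc

/-!
# `L`-torsion sheaves
-/

set_option autoImplicit false
set_option backward.isDefEq.respectTransparency false
set_option backward.isDefEq.respectTransparency.types false
set_option linter.style.haveILetI false
set_option maxHeartbeats 800000

universe u

open CategoryTheory CategoryTheory.Limits AlgebraicGeometry Opposite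

noncomputable section

namespace Groth.Agent.RpushTorsLib

variable {X : Scheme.{u}} {L : Set ℕ}

theorem isTorsion_of_isLTorsion {F : EtCoh.Ab X} (h : EtAcyc.IsLTorsion L F) : EtCoh.IsTorsion F :=
  fun U s x => by
    obtain ⟨V, g, m, hv, hm, h0⟩ := h U s x
    exact ⟨V, g, hv, isOfFinAddOrder_iff_nsmul_eq_zero.2 ⟨m, hm.1, h0⟩⟩

theorem isLTorsion_univ {F : EtCoh.Ab X} (h : EtCoh.IsTorsion F) : EtAcyc.IsLTorsion Set.univ F :=
  fun U s x => by
    obtain ⟨V, g, hv, h0⟩ := h U s x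
    obtain ⟨m, hm, h0⟩ := isOfFinAddOrder_iff_nsmul_eq_zero.1 h0
    exact ⟨V, g, m, hv, ⟨hm, fun _ _ _ => trivial⟩, h0⟩

/-- Transport along isomorphisms. -/
theorem isLTorsion_of_iso {F G : EtCoh.Ab X} (e : F ≅ G) (h : EtAcyc.IsLTorsion L F) : EtAcyc.IsLTorsion L G :=
  fun U s x => by
    obtain ⟨V, g, m, hv, hm, h0⟩ := h U (e.inv.hom.app (op U) s) x
    refine ⟨V, g, m, hv, hm, ?_⟩
    have h1 : e.inv.hom.app (op V) (m • G.obj.map g.op s) = 0 := by
      rw [map_nsmul, NatTrans.naturality_apply e.inv.hom g.op s]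
      exact h0
    have h2 := congrArg (e.hom.hom.app (op V)) h1
    rw [map_zero, ← ConcreteCategory.comp_apply] at h2
    refine (ConcreteCategory.congr_hom (?_ : e.inv.hom.app (op V) ≫ e.hom.hom.app (op V) = 𝟙 _) _).symm.trans h2
    rw [← NatTrans.comp_app, ← ObjectProperty.FullSubcategory.comp_hom, e.inv_hom_id]
    rfl

/-- The `L`-part of a natural number. -/
theorem exists_split (L : Set ℕ) : ∀ N : ℕ, 0 < N → ∃ a b : ℕ, N = a * b ∧ EtAcyc.PrimesIn L a ∧
    ∀ p : ℕ, p.Prime → p ∈ L → ¬ p ∣ b := by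
  intro N
  induction N using Nat.strong_induction_on with
  | _ N ih =>
    intro hN
    by_cases h : ∃ p, p.Prime ∧ p ∈ L ∧ p ∣ N
    · obtain ⟨p, hp, hpL, ⟨M, rfl⟩⟩ := h
      have hM : 0 < M := Nat.pos_of_mul_pos_left hN
      obtain ⟨a, b, rfl, ha, hb⟩ := ih M (lt_mul_of_one_lt_left hM hp.one_lt) hM
      refine ⟨p * a, b, (mul_assoc _ _ _).symm, ⟨Nat.mul_pos hp.pos ha.1, fun q hq hd => ?_⟩, hb⟩
      rcases (Nat.Prime.dvd_mul hq).1 hd with hd | hd
      · rwa [(Nat.prime_dvd_prime_iff_eq hq hp).1 hd]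
      · exact ha.2 q hq hd
    · push Not at h
      exact ⟨1, N, (one_mul N).symm, ⟨Nat.one_pos, fun q hq hd => absurd (Nat.eq_one_of_dvd_one hd) hq.ne_one⟩, h⟩

theorem coprime_of_primesIn {m b : ℕ} (hm : EtAcyc.PrimesIn L m) (hb : ∀ p : ℕ, p.Prime → p ∈ L → ¬ p ∣ b) :
    m.Coprime b :=
  Nat.coprime_of_dvd fun p hp h1 h2 => hb p hp (hm.2 p hp h1) h2

theorem stalk_nsmul {Ω : Type u} [Field Ω] [IsSepClosed Ω] (ξ : Spec (CommRingCat.of Ω) ⟶ X) (F : EtCoh.Ab X)
    (b : ℕ) (t : (EtCoh.stalk ξ).obj F) : (EtCoh.stalk ξ).map (b • 𝟙 F) t = b • t := by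
  haveI : (EtCoh.stalk ξ).Additive := Functor.additive_of_preserves_binary_products _
  rw [Functor.map_nsmul, CategoryTheory.Functor.map_id]
  rfl

/-- Integers prime to `L` act invertibly on `L`-torsion sheaves. -/
theorem isIso_nsmul {F : EtCoh.Ab X} (hF : EtAcyc.IsLTorsion L F) {b : ℕ}
    (hb : ∀ p : ℕ, p.Prime → p ∈ L → ¬ p ∣ b) : IsIso (b • 𝟙 F) := by
  have hst := (S8525.result L F).1 hF
  haveI : Mono (b • 𝟙 F) := (EtPtsLib.mono_iff_ab _).2 fun Ω _ _ ξ =>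
    (injective_iff_map_eq_zero _).2 fun t ht => by
      obtain ⟨m, hm, hmt⟩ := hst Ω ξ t
      rw [stalk_nsmul] at ht
      exact AddMonoid.addOrderOf_eq_one_iff.1 (Nat.eq_one_of_dvd_coprimes (coprime_of_primesIn hm hb)
        (addOrderOf_dvd_iff_nsmul_eq_zero.2 hmt) (addOrderOf_dvd_iff_nsmul_eq_zero.2 ht))
  haveI : Epi (b • 𝟙 F) := (EtPtsLib.epi_iff_ab _).2 fun Ω _ _ ξ t => by
    obtain ⟨m, hm, hmt⟩ := hst Ω ξ t
    obtain ⟨c, hc⟩ : (b.cast : ℤ) ∣ 1 - (Nat.gcdA m b) * m := ⟨Nat.gcdB m b, by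
      have h := Nat.gcd_eq_gcd_ab m b
      rw [(coprime_of_primesIn hm hb).gcd_eq_one] at h
      push_cast at h
      linarith⟩
    refine ⟨c • t, ?_⟩
    rw [stalk_nsmul, ← natCast_zsmul, smul_smul, ← hc, sub_smul, one_smul, mul_smul, natCast_zsmul, hmt, smul_zero,
      sub_zero]
  exact isIso_of_mono_of_epi _

/-- Cohomology of `L`-torsion sheaves on quasi-compact quasi-separated schemes is `L`-torsion. -/
theorem exists_nsmul_H_eq_zero [CompactSpace X] [QuasiSeparatedSpace X] {F : EtCoh.Ab X}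
    (hF : EtAcyc.IsLTorsion L F) (n : ℕ) (x : EtCoh.H X F n) : ∃ m : ℕ, EtAcyc.PrimesIn L m ∧ m • x = 0 := by
  obtain ⟨N, hN, h0⟩ := isOfFinAddOrder_iff_nsmul_eq_zero.1 (FLCLib.isAddTorsion_H (isTorsion_of_isLTorsion hF) n x)
  obtain ⟨a, b, rfl, ha, hb⟩ := exists_split L N hN
  refine ⟨a, ha, ?_⟩
  haveI := isIso_nsmul hF hb
  haveI : (EtCoh.HF X n).Additive := by unfold EtCoh.HF; infer_instance
  have hinj := (ConcreteCategory.bijective_of_isIso ((EtCoh.HF X n).map (b • 𝟙 F))).1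
  apply hinj
  rw [map_zero, Functor.map_nsmul, CategoryTheory.Functor.map_id]
  show b • (a • x) = 0
  rw [smul_smul, mul_comm]
  exact h0

variable {W : Scheme.{u}} (j : W ⟶ X) [AlgebraicGeometry.Etale j] [EtShriek.JCont j]

/-- Restrictions of `L`-torsion sheaves are `L`-torsion. -/
theorem isLTorsion_restr {F : EtCoh.Ab X} (hF : EtAcyc.IsLTorsion L F) :
    EtAcyc.IsLTorsion L ((EtShriek.restrAlong j).obj F) := fun V s x => by
  obtain ⟨V', g, m, ⟨v, hv⟩, hm, h0⟩ := hF ((EtShriek.compEtale j).obj V) s x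
  let P := EtShriek.compEtaleLift j g
  have hP : P.1.left = V'.left := rfl
  let g' : P.1 ⟶ V := MorphismProperty.Over.homMk g.left rfl
  have hcomp : (EtShriek.compEtale j).map g' = P.2.hom ≫ g := MorphismProperty.Over.Hom.ext (Category.id_comp _).symm
  refine ⟨P.1, g', m, ⟨v, hv⟩, hm, ?_⟩
  show m • F.obj.map ((EtShriek.compEtale j).map g').op s = 0
  rw [hcomp, op_comp, Functor.map_comp, ConcreteCategory.comp_apply, ← map_nsmul, h0, map_zero]

end Groth.Agent.RpushTorsLib
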