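import Groth.Agent.RpushTorsLib.LTors
import Groth.Agent.S17614
import Mathlib.CategoryTheory.Abelian.Injective.Ext
import Mathlib.CategoryTheory.Abelian.RightDerived

/-!
# Higher direct images of `L`-torsion sheaves
-/

set_option autoImplicit false
set_option backward.isDefEq.respectTransparency false
set_option backward.isDefEq.respectTransparency.types false
set_option linter.style.haveILetI false
set_option maxHeartbeats 800000
set_option synthInstance.maxHeartbeats 400000

universe u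

open CategoryTheory CategoryTheory.Limits AlgebraicGeometry Opposite CategoryTheory.Abelian

noncomputable section

namespace Groth.Agent.RpushTorsLib

theorem eq_zero_of_extMk_zero {A : Type*} [Category A] [Abelian A] [HasExt.{u + 1} A] {Y X : A}
    (R : InjectiveResolution Y) (f : X ⟶ R.cocomplex.X 0)
    (hf : f ≫ R.cocomplex.d 0 1 = 0) (h : R.extMk f 1 rfl hf = 0) : f = 0 := by
  rw [← R.extEquivCohomologyClass.apply_eq_iff_eq, InjectiveResolution.extEquivCohomologyClass_extMk,
    InjectiveResolution.extEquivCohomologyClass_zero,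
    CochainComplex.HomComplex.CohomologyClass.mk_eq_zero_iff,
    CochainComplex.HomComplex.Cocycle.fromSingleMk_mem_coboundaries_iff _ _ _ _ _ (-1 : ℤ) (by simp)] at h
  obtain ⟨g, hg⟩ := h
  have hz : IsZero (R.cochainComplex.X (-1)) :=
    CochainComplex.isZero_of_isStrictlyGE R.cochainComplex 0 (-1) (by lia)
  rw [hz.eq_of_tgt g 0, zero_comp] at hg
  rw [← cancel_mono (R.cochainComplexXIso 0 0 rfl).inv, zero_comp]
  exact hg.symm

theorem nsmul_extMk {A : Type*} [Category A] [Abelian A] [HasExt.{u + 1} A] {Y X : A}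
    (R : InjectiveResolution Y) {n : ℕ} (f : X ⟶ R.cocomplex.X n) (hf : f ≫ R.cocomplex.d n (n + 1) = 0) :
    ∀ m : ℕ, m • R.extMk f (n + 1) rfl hf = R.extMk (m • f) (n + 1) rfl
      (by rw [Preadditive.nsmul_comp, hf, smul_zero]) := by
  intro m
  induction m with
  | zero => simp
  | succ m ih =>
    rw [succ_nsmul, ih, InjectiveResolution.add_extMk]
    congr 1
    rw [succ_nsmul]

section Sections

variable {Z : Scheme.{u}}

/-- Global sections are the maps from the constant sheaf. -/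
def secHom (G : EtCoh.Ab Z) : EtCoh.sect G (EtCoh.top Z) ≃+ (EtCoh.const Z ℤ ⟶ G) :=
  ((Sheaf.H.equiv₀ G (EtCore.topIsTerminal Z)).symm).trans Ext.addEquiv₀

theorem secHom_natural {G K : EtCoh.Ab Z} (a : G ⟶ K) (x : EtCoh.sect G (EtCoh.top Z)) :
    secHom K (a.hom.app (op (EtCoh.top Z)) x) = secHom G x ≫ a := by
  show Ext.addEquiv₀ ((Sheaf.H.equiv₀ K (EtCore.topIsTerminal Z)).symm (a.hom.app (op (EtCoh.top Z)) x)) =
    Ext.addEquiv₀ ((Sheaf.H.equiv₀ G (EtCore.topIsTerminal Z)).symm x) ≫ a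
  have e : (Sheaf.H.equiv₀ K (EtCore.topIsTerminal Z)).symm (a.hom.app (op (EtCoh.top Z)) x) =
      Sheaf.H.map a 0 ((Sheaf.H.equiv₀ G (EtCore.topIsTerminal Z)).symm x) := by
    rw [AddEquiv.symm_apply_eq, ← Sheaf.H.equiv₀_naturality, AddEquiv.apply_symm_apply]
  rw [e]
  generalize (Sheaf.H.equiv₀ G (EtCore.topIsTerminal Z)).symm x = y
  obtain ⟨b, rfl⟩ := Ext.addEquiv₀.symm.surjective y
  show Ext.addEquiv₀ ((Ext.mk₀ b).comp (Ext.mk₀ a) (add_zero 0)) = _
  rw [Ext.mk₀_comp_mk₀]
  exact (Ext.addEquiv₀.apply_symm_apply (b ≫ a)).trans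
    (congrArg (· ≫ a) (Ext.addEquiv₀.apply_symm_apply b)).symm

end Sections

variable {X : Scheme.{u}} {L : Set ℕ}

/-- Cocycles on a quasi-compact quasi-separated étale scheme are `L`-torsion up to coboundaries. -/
theorem exists_kill_cocycle {F : EtCoh.Ab X} (R : InjectiveResolution F) (hF : EtAcyc.IsLTorsion L F) (n : ℕ)
    (W : X.Etale) [CompactSpace W.left] [QuasiSeparatedSpace W.left] (z : EtCoh.sect (R.cocomplex.X n) W)
    (hz : (R.cocomplex.d n (n + 1)).hom.app (op W) z = 0) :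
    ∃ m : ℕ, EtAcyc.PrimesIn L m ∧ ∃ w : EtCoh.sect (R.cocomplex.X ((ComplexShape.up ℕ).prev n)) W,
      (R.cocomplex.d ((ComplexShape.up ℕ).prev n) n).hom.app (op W) w = m • z := by
  let Z : Scheme.{u} := W.left
  let j : Z ⟶ X := W.hom
  haveI : AlgebraicGeometry.Etale j := W.prop
  haveI : EtShriek.JCont j := EtJCont.jCont j
  let Φ := EtShriek.restrAlong j
  haveI : PreservesFiniteLimits Φ :=
    haveI : Φ.IsRightAdjoint := (EtShriek.extZeroAdj j).isRightAdjoint
    inferInstance
  haveI : PreservesFiniteColimits Φ := by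
    haveI : PreservesColimitsOfSize.{0, 0} Φ := (EtPtsLib.restrPushAdj j).leftAdjoint_preservesColimits
    exact PreservesColimitsOfSize.preservesFiniteColimits _
  haveI : Φ.Additive := Functor.additive_of_preserves_binary_products Φ
  let R' : InjectiveResolution (Φ.obj F) :=
    { cocomplex := (Φ.mapHomologicalComplex (ComplexShape.up ℕ)).obj R.cocomplex
      injective := fun i => haveI := S17614.injective_pull j (R.cocomplex.X i)
        Injective.of_iso ((EtPtsLib.pullIsoRestr j).app _) inferInstance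
      ι := (HomologicalComplex.singleMapHomologicalComplex Φ (ComplexShape.up ℕ) 0).inv.app F ≫
        (Φ.mapHomologicalComplex (ComplexShape.up ℕ)).map R.ι
      quasiIso := inferInstance }
  let V := (EtShriek.compEtale j).obj (EtCoh.top Z)
  let e : V ⟶ W := MorphismProperty.Over.homMk (𝟙 Z) rfl
  let e' : W ⟶ V := MorphismProperty.Over.homMk (𝟙 Z) ((Category.id_comp _).trans (Category.id_comp _))
  have hee' : e' ≫ e = 𝟙 W := MorphismProperty.Over.Hom.ext (Category.id_comp _)
  let t : EtCoh.sect (Φ.obj (R.cocomplex.X n)) (EtCoh.top Z) := (R.cocomplex.X n).obj.map e.op z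
  let φ : EtCoh.const Z ℤ ⟶ R'.cocomplex.X n := secHom (Φ.obj (R.cocomplex.X n)) t
  have hφ : φ ≫ R'.cocomplex.d n (n + 1) = 0 := by
    show secHom _ t ≫ Φ.map (R.cocomplex.d n (n + 1)) = 0
    rw [← secHom_natural]
    refine (congrArg (secHom _) ?_).trans (map_zero _)
    show (R.cocomplex.d n (n + 1)).hom.app (op V) ((R.cocomplex.X n).obj.map e.op z) = 0
    rw [NatTrans.naturality_apply (R.cocomplex.d n (n + 1)).hom e.op z, hz, map_zero]
  obtain ⟨m, hm, hx⟩ := exists_nsmul_H_eq_zero (isLTorsion_restr j hF) n (R'.extMk φ (n + 1) rfl hφ)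
  refine ⟨m, hm, ?_⟩
  replace hx : R'.extMk (m • φ) (n + 1) rfl (by rw [Preadditive.nsmul_comp, hφ, smul_zero]) = 0 :=
    (nsmul_extMk R' φ hφ m).symm.trans hx
  have back : ∀ i (a : EtCoh.sect (R.cocomplex.X i) W),
      (R.cocomplex.X i).obj.map e'.op ((R.cocomplex.X i).obj.map e.op a) = a := fun i a => by
    rw [← ConcreteCategory.comp_apply, ← Functor.map_comp, ← op_comp, hee', op_id, CategoryTheory.Functor.map_id]
    rfl
  rcases n with _ | p
  · have h0 := eq_zero_of_extMk_zero R' _ _ hx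
    have hmt : m • t = 0 := (secHom _).injective (by rw [map_nsmul, map_zero]; exact h0)
    refine ⟨0, ?_⟩
    rw [map_zero, ← back 0 z, ← map_nsmul, show m • (R.cocomplex.X 0).obj.map e.op z = 0 from hmt, map_zero]
  · obtain ⟨g, hg⟩ := (R'.extMk_eq_zero_iff (m • φ) (p + 1 + 1) rfl _ p rfl).1 hx
    rw [CochainComplex.prev_nat_succ]
    let w₀ := (secHom (Φ.obj (R.cocomplex.X p))).symm g
    have hw : (R.cocomplex.d p (p + 1)).hom.app (op V) w₀ = m • t := (secHom _).injective (by
      refine (secHom_natural (Φ.map (R.cocomplex.d p (p + 1))) w₀).trans ?_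
      rw [AddEquiv.apply_symm_apply, map_nsmul]
      exact hg)
    refine ⟨(R.cocomplex.X p).obj.map e'.op w₀, ?_⟩
    rw [NatTrans.naturality_apply (R.cocomplex.d p (p + 1)).hom e'.op w₀]
    refine (congrArg _ hw).trans ?_
    rw [map_nsmul]
    exact congrArg (m • ·) (back (p + 1) z)

/-- Higher direct images of `L`-torsion sheaves are `L`-torsion. -/
theorem isLTorsion_Rpush {Y : Scheme.{u}} (f : X ⟶ Y) [QuasiCompact f] [QuasiSeparated f] [EtCoh.BCCont f]
    (F : EtCoh.Ab X) (hF : EtAcyc.IsLTorsion L F) (n : ℕ) : EtAcyc.IsLTorsion L ((EtCoh.Rpush f n).obj F) := by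
  haveI : (EtCoh.push f).Additive := (EtCoh.pullPushAdj f).right_adjoint_additive
  let R := InjectiveResolution.of F
  refine isLTorsion_of_iso (R.isoRightDerivedObj (EtCoh.push f) n).symm ?_
  let K := ((EtCoh.push f).mapHomologicalComplex (ComplexShape.up ℕ)).obj R.cocomplex
  show EtAcyc.IsLTorsion L (K.homology n)
  intro U s x
  haveI : Sheaf.IsLocallySurjective (K.homologyπ n) :=
    (Sheaf.isLocallySurjective_iff_epi' AddCommGrpCat.{u + 1} _).2 inferInstance
  obtain ⟨V₁, g₁, v₁, ⟨z₁, hz₁⟩, hv₁⟩ := EtPtsLib.exists_mem_of_covering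
    (Presheaf.imageSieve_mem Y.smallEtaleTopology (K.homologyπ n).hom (U := op U) s) x
  obtain ⟨B, hB, hvB, -⟩ := exists_isAffineOpen_mem_and_subset (x := v₁) (U := (⊤ : V₁.left.Opens)) trivial
  haveI : IsAffine B.toScheme := hB
  haveI : AlgebraicGeometry.Etale V₁.hom := V₁.prop
  let V : Y.Etale := Scheme.Etale.mk (B.ι ≫ V₁.hom)
  let g₂ : V ⟶ V₁ := MorphismProperty.Over.homMk B.ι rfl
  let z := (K.cycles n).obj.map g₂.op z₁
  let W : X.Etale := (EtCoh.bc f).obj V
  haveI : CompactSpace W.left := QuasiCompact.compactSpace_of_compactSpace (pullback.fst (B.ι ≫ V₁.hom) f)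
  haveI : QuasiSeparatedSpace W.left := quasiSeparatedSpace_of_quasiSeparated (pullback.fst (B.ι ≫ V₁.hom) f)
  let zc : EtCoh.sect (R.cocomplex.X n) W := (K.iCycles n).hom.app (op V) z
  have hzc : (R.cocomplex.d n (n + 1)).hom.app (op W) zc = 0 := by
    show (K.iCycles n ≫ K.d n (n + 1)).hom.app (op V) z = 0
    rw [K.iCycles_d]
    rfl
  obtain ⟨m, hm, w, hw⟩ := exists_kill_cocycle R hF n W zc hzc
  refine ⟨V, g₂ ≫ g₁, m, ⟨⟨v₁, hvB⟩, hv₁⟩, hm, ?_⟩
  have hs : (K.homology n).obj.map (g₂ ≫ g₁).op s = (K.homologyπ n).hom.app (op V) z := by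
    rw [op_comp, Functor.map_comp, ConcreteCategory.comp_apply, ← hz₁]
    exact (NatTrans.naturality_apply (K.homologyπ n).hom g₂.op z₁).symm
  have hinj : Function.Injective ((K.iCycles n).hom.app (op V)) := by
    haveI : Mono ((K.iCycles n).hom.app (op V)) :=
      (sheafToPresheaf _ _ ⋙ (evaluation _ _).obj (op V)).map_mono (K.iCycles n)
    exact (AddCommGrpCat.mono_iff_injective _).1 ‹_›
  have hb : (K.toCycles ((ComplexShape.up ℕ).prev n) n).hom.app (op V) w = m • z := hinj (by
    rw [map_nsmul]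
    exact (congrArg (fun a : K.X _ ⟶ K.X n => a.hom.app (op V) w) (K.toCycles_i _ n)).trans hw)
  rw [hs, ← map_nsmul, ← hb]
  exact congrArg (fun a : K.X _ ⟶ K.homology n => a.hom.app (op V) w) (K.toCycles_comp_homologyπ _ n)

end Groth.Agent.RpushTorsLib
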